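import Groth.Agent.HilbCurveLib.Divisor

/-! A relative divisor on a smooth curve becomes a sum of sections after a finite flat base change. -/

set_option autoImplicit false
set_option backward.isDefEq.respectTransparency false
set_option backward.defeqAttrib.useBackward true
set_option linter.style.haveILetI false

universe u

open CategoryTheory CategoryTheory.Limits AlgebraicGeometry

namespace Groth.Agent.HilbCurveLib

theorem ker_of_isPullback {A B C D : Scheme.{u}} {σ' : A ⟶ B} {b : A ⟶ C} {p : B ⟶ D} {σ : C ⟶ D}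
    [IsClosedImmersion σ] (h : IsPullback σ' b p σ) : σ'.ker = σ.ker.comap p := by
  rw [← h.isoPullback_hom_fst, Scheme.Hom.ker_comp_of_isIso, Scheme.IdealSheafData.ker_fst_of_isClosedImmersion]

theorem isPullback_comap {C C' S S' : Scheme.{u}} {p : C' ⟶ C} {f' : C' ⟶ S'} {f : C ⟶ S} {b : S' ⟶ S}
    (h : IsPullback p f' f b) (I : C.IdealSheafData) :
    IsPullback ((I.comap p).subschemeι ≫ f') ((I.comapIso p).hom ≫ pullback.snd p I.subschemeι)
      b (I.subschemeι ≫ f) := by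
  have h1 : IsPullback (I.comap p).subschemeι
      ((I.comapIso p).hom ≫ pullback.snd p I.subschemeι) p I.subschemeι :=
    IsPullback.of_iso_pullback ⟨by rw [← I.comapIso_hom_fst p, Category.assoc, pullback.condition, Category.assoc]⟩
      (I.comapIso _) (by simp) (by simp)
  exact h1.flip.paste_vert h |>.flip

theorem deg_comap {C C' S S' : Scheme.{u}} {p : C' ⟶ C} {f' : C' ⟶ S'} {f : C ⟶ S} {b : S' ⟶ S}
    (h : IsPullback p f' f b) {I : C.IdealSheafData} {d : ℕ} (hI : Mor2.IsFinLocFreeOfDeg d (I.subschemeι ≫ f)) :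
    Mor2.IsFinLocFreeOfDeg d ((I.comap p).subschemeι ≫ f') := by
  obtain ⟨⟨h1, h2, h3⟩, h4⟩ := hI
  have sq := (isPullback_comap h I).flip
  refine ⟨⟨MorphismProperty.of_isPullback sq h1, MorphismProperty.of_isPullback sq h2,
    MorphismProperty.of_isPullback sq h3⟩, fun y => ?_⟩
  rw [Scheme.Hom.finrank_of_isPullback _ _ _ _ sq y, h4]

theorem deg_section {C S : Scheme.{u}} (f : C ⟶ S) [IsSeparated f] (σ : S ⟶ C) (hσ : σ ≫ f = 𝟙 S) :
    IsClosedImmersion σ ∧ Mor2.IsFinLocFreeOfDeg 1 (σ.ker.subschemeι ≫ f) := by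
  haveI : IsClosedImmersion (σ ≫ f) := hσ ▸ inferInstance
  haveI : IsClosedImmersion σ := IsClosedImmersion.of_comp σ f
  refine ⟨inferInstance, ?_⟩
  have e : σ.ker.subschemeι ≫ f = inv σ.toImage := by
    rw [IsIso.eq_inv_of_hom_inv_id (f := σ.toImage) (g := σ.ker.subschemeι ≫ f)]
    rw [← Category.assoc]
    show (σ.toImage ≫ σ.imageι) ≫ f = _
    rw [σ.toImage_imageι, hσ]
  haveI : IsIso (σ.ker.subschemeι ≫ f) := e ▸ inferInstance
  exact ⟨⟨inferInstance, inferInstance, inferInstance⟩,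
    congrFun ((Scheme.Hom.isIso_iff_finrank_eq (f := σ.ker.subschemeι ≫ f)).1 inferInstance)⟩

theorem exists_split (d : ℕ) : ∀ {C S : Scheme.{u}} (f : C ⟶ S) [SmoothOfRelativeDimension 1 f] [IsSeparated f]
    (I : C.IdealSheafData), Mor2.IsFinLocFreeOfDeg d (I.subschemeι ≫ f) →
    ∃ (S' C' : Scheme.{u}) (b : S' ⟶ S) (p : C' ⟶ C) (f' : C' ⟶ S'), IsPullback p f' f b ∧
      Flat b ∧ Surjective b ∧ LocallyOfFinitePresentation b ∧
      ∃ σ : Fin d → (S' ⟶ C'), (∀ i, σ i ≫ f' = 𝟙 S') ∧ I.comap p = ∏ i, (σ i).ker := by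
  induction d with
  | zero =>
    intro C S f _ _ I hI
    refine ⟨S, C, 𝟙 S, 𝟙 C, f, IsPullback.of_horiz_isIso ⟨by simp⟩, inferInstance, inferInstance, inferInstance,
      Fin.elim0, fun i => i.elim0, ?_⟩
    rw [Scheme.IdealSheafData.comap_id, eq_top_of_deg_zero f hI, Finset.univ_eq_empty, Finset.prod_empty]
    rfl
  | succ d ih =>
    intro C S f _ _ I hI
    obtain ⟨⟨h1, h2, h3⟩, h4⟩ := hI
    let D := I.subscheme
    let b₁ := I.subschemeι ≫ f
    haveI : Surjective b₁ := (Scheme.Hom.one_le_finrank_iff_surjective b₁).1 fun y => by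
      show 1 ≤ (I.subschemeι ≫ f).finrank y
      rw [h4 y]; omega
    let C₁ := pullback f b₁
    let p₁ : C₁ ⟶ C := pullback.fst f b₁
    let f₁ : C₁ ⟶ D := pullback.snd f b₁
    have sq₁ : IsPullback p₁ f₁ f b₁ := IsPullback.of_hasPullback f b₁
    haveI : SmoothOfRelativeDimension 1 f₁ := by
      haveI := smoothOfRelativeDimension_isStableUnderBaseChange (n := 1)
      exact MorphismProperty.of_isPullback sq₁ inferInstance
    haveI : IsSeparated f₁ := MorphismProperty.of_isPullback sq₁ inferInstance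
    let s : D ⟶ C₁ := pullback.lift I.subschemeι (𝟙 D) (by simp [b₁])
    have hs : s ≫ f₁ = 𝟙 D := pullback.lift_snd _ _ _
    obtain ⟨hscl, hsdeg⟩ := deg_section f₁ s hs
    have hle : I.comap p₁ ≤ s.ker := by
      have : pullback.lift s (𝟙 D) (by simp [s, p₁]) ≫ pullback.fst p₁ I.subschemeι = s := pullback.lift_fst _ _ _
      rw [← this]
      exact Scheme.Hom.le_ker_comp _ _
    obtain ⟨K, hK, hIK⟩ := exists_deg_diff f₁ hle hsdeg (deg_comap sq₁ ⟨⟨h1, h2, h3⟩, h4⟩)
    rw [Nat.add_sub_cancel] at hK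
    obtain ⟨S', C', b₂, p₂, f', sq₂, hb1, hb2, hb3, σ, hσ, hσK⟩ := ih f₁ K hK
    have hw : (b₂ ≫ s) ≫ f₁ = 𝟙 S' ≫ b₂ := by rw [Category.assoc, hs, Category.comp_id, Category.id_comp]
    let s' : S' ⟶ C' := sq₂.lift (b₂ ≫ s) (𝟙 S') hw
    have sq₃ : IsPullback s' b₂ p₂ s := by
      refine IsPullback.of_right ?_ (sq₂.lift_fst _ _ hw) sq₂.flip
      rw [sq₂.lift_snd, hs]
      exact IsPullback.of_horiz_isIso ⟨by simp⟩
    refine ⟨S', C', b₂ ≫ b₁, p₂ ≫ p₁, f', sq₂.paste_horiz sq₁, inferInstance, inferInstance, inferInstance,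
      Fin.cons s' σ, fun i => ?_, ?_⟩
    · induction i using Fin.cases with
      | zero => rw [Fin.cons_zero]; exact sq₂.lift_snd _ _ hw
      | succ i => rw [Fin.cons_succ]; exact hσ i
    · haveI := hscl
      rw [Scheme.IdealSheafData.comap_comp, hIK, BlowCompLib.comap_mul, hσK, Fin.prod_univ_succ]
      simp only [Fin.cons_zero, Fin.cons_succ]
      rw [ker_of_isPullback sq₃]

end Groth.Agent.HilbCurveLib
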