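import Groth.Agent.HilbCurveLib.Degree
import Groth.Agent.S1702
import Groth.Agent.S1710

/-! Relative divisors of a given degree on a smooth curve: sums, differences, cancellation. -/

set_option autoImplicit false
set_option backward.isDefEq.respectTransparency false
set_option backward.defeqAttrib.useBackward true
set_option linter.style.haveILetI false

universe u

open CategoryTheory CategoryTheory.Limits AlgebraicGeometry

namespace Groth.Agent.HilbCurveLib

variable {X S : Scheme.{u}} (f : X ⟶ S) [SmoothOfRelativeDimension 1 f]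

theorem effCartier_of_flf {I : X.IdealSheafData} (h : Mor2.IsFinLocFree (I.subschemeι ≫ f)) :
    BlowUp.IsEffCartierIdeal I := by
  obtain ⟨h1, h2, h3⟩ := h
  exact isEffCartier_of_lqf f I

theorem deg_mul {I J : X.IdealSheafData} {a b : ℕ} (hI : Mor2.IsFinLocFreeOfDeg a (I.subschemeι ≫ f))
    (hJ : Mor2.IsFinLocFreeOfDeg b (J.subschemeι ≫ f)) :
    Mor2.IsFinLocFreeOfDeg (a + b) ((I * J).subschemeι ≫ f) := by
  haveI : Smooth f := SmoothOfRelativeDimension.smooth 1 f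
  have eI := effCartier_of_flf f hI.1
  have eJ := effCartier_of_flf f hJ.1
  obtain ⟨⟨fI, flI, pI⟩, rI⟩ := hI
  obtain ⟨⟨fJ, flJ, pJ⟩, rJ⟩ := hJ
  obtain ⟨e, fl⟩ := Groth.Agent.S1702.result f I J ⟨eI, flI⟩ ⟨eJ, flJ⟩
  haveI := isFinite_mul f I J e
  haveI := lfp_subschemeι (I * J) e
  exact ⟨⟨inferInstance, fl, inferInstance⟩, fun s => by rw [finrank_mul f I J eI eJ s, rI s, rJ s]⟩

theorem deg_factor {I J : X.IdealSheafData} {a c : ℕ} (hI : Mor2.IsFinLocFreeOfDeg a (I.subschemeι ≫ f))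
    (hJ : BlowUp.IsEffCartierIdeal J) (hIJ : Mor2.IsFinLocFreeOfDeg c ((I * J).subschemeι ≫ f)) :
    Mor2.IsFinLocFreeOfDeg (c - a) (J.subschemeι ≫ f) := by
  haveI : Smooth f := SmoothOfRelativeDimension.smooth 1 f
  have eI := effCartier_of_flf f hI.1
  have eIJ := effCartier_of_flf f hIJ.1
  obtain ⟨⟨fI, flI, pI⟩, rI⟩ := hI
  obtain ⟨⟨f2, fl2, p2⟩, r2⟩ := hIJ
  haveI flJ : Flat (J.subschemeι ≫ f) := Groth.Agent.S1710.result f I (I * J) J ⟨eI, flI⟩ ⟨eIJ, fl2⟩ hJ rfl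
  have hle : I * J ≤ J := fun U => by rw [Scheme.IdealSheafData.ideal_mul, Pi.mul_apply]; exact Ideal.mul_le_right
  haveI fJ : IsFinite (J.subschemeι ≫ f) := by
    rw [← Scheme.IdealSheafData.inclusion_subschemeι hle, Category.assoc]
    infer_instance
  haveI := lfp_subschemeι J hJ
  exact ⟨⟨fJ, flJ, inferInstance⟩, fun s => by
    have h := finrank_mul f I J eI hJ s
    rw [r2 s, rI s] at h
    omega⟩

theorem exists_deg_diff {I J : X.IdealSheafData} (hle : J ≤ I) {a c : ℕ}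
    (hI : Mor2.IsFinLocFreeOfDeg a (I.subschemeι ≫ f)) (hJ : Mor2.IsFinLocFreeOfDeg c (J.subschemeι ≫ f)) :
    ∃ K : X.IdealSheafData, Mor2.IsFinLocFreeOfDeg (c - a) (K.subschemeι ≫ f) ∧ J = I * K := by
  have eI := effCartier_of_flf f hI.1
  obtain ⟨h1, h2⟩ := diff_spec eI (effCartier_of_flf f hJ.1) hle
  exact ⟨_, deg_factor f hI h2 (h1.symm ▸ hJ), h1.symm⟩

omit [SmoothOfRelativeDimension 1 f] in
theorem eq_top_of_deg_zero {K : X.IdealSheafData} (h : Mor2.IsFinLocFreeOfDeg 0 (K.subschemeι ≫ f)) : K = ⊤ := by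
  obtain ⟨⟨h1, h2, h3⟩, h4⟩ := h
  rw [← Scheme.IdealSheafData.support_eq_bot_iff]
  refine TopologicalSpace.Closeds.ext (Set.eq_empty_iff_forall_notMem.2 fun z hz => ?_)
  rw [← K.range_subschemeι] at hz
  obtain ⟨w, rfl⟩ := hz
  have := (K.subschemeι ≫ f).one_le_finrank_map w
  rw [h4] at this
  omega

theorem eq_of_le_of_deg {I J : X.IdealSheafData} (hle : J ≤ I) {a : ℕ}
    (hI : Mor2.IsFinLocFreeOfDeg a (I.subschemeι ≫ f)) (hJ : Mor2.IsFinLocFreeOfDeg a (J.subschemeι ≫ f)) : J = I := by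
  obtain ⟨K, hK, rfl⟩ := exists_deg_diff f hle hI hJ
  rw [Nat.sub_self] at hK
  rw [eq_top_of_deg_zero f hK, Scheme.IdealSheafData.mul_top]

end Groth.Agent.HilbCurveLib
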