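import Groth.Agent.HilbCurveLib.Split
import Groth.Prelude.Def_HilbD

/-! Base change in the Hilbert functor of points, as comap of ideal sheaves. -/

set_option autoImplicit false
set_option backward.isDefEq.respectTransparency false
set_option backward.isDefEq.respectTransparency.types false
set_option backward.defeqAttrib.useBackward true
set_option linter.style.haveILetI false

universe u

open CategoryTheory CategoryTheory.Limits AlgebraicGeometry

namespace Groth.Agent.HilbCurveLib

variable {X S : Scheme.{u}} (f : X ⟶ S)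

theorem pull_eq {T T' : Over S} (g : T' ⟶ T) (I : (PicF.XT f T).IdealSheafData) :
    HilbD.pull f g I = I.comap (PicF.XTmap f g) := by
  rw [HilbD.pull, ← pullbackSymmetry_hom_comp_fst, Scheme.Hom.ker_comp_of_isIso]
  rfl

theorem XTmap_fst {T T' : Over S} (g : T' ⟶ T) :
    PicF.XTmap f g ≫ pullback.fst f T.hom = pullback.fst f T'.hom := by simp [PicF.XTmap, pullback.map]

theorem XTmap_snd {T T' : Over S} (g : T' ⟶ T) :
    PicF.XTmap f g ≫ pullback.snd f T.hom = pullback.snd f T'.hom ≫ g.left := by simp [PicF.XTmap, pullback.map]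

theorem XTmap_comp {T T' T'' : Over S} (g : T' ⟶ T) (g' : T'' ⟶ T') :
    PicF.XTmap f (g' ≫ g) = PicF.XTmap f g' ≫ PicF.XTmap f g := by
  apply pullback.hom_ext <;> simp [PicF.XTmap, pullback.map]

theorem isPullback_XTmap {T T' : Over S} (g : T' ⟶ T) :
    IsPullback (PicF.XTmap f g) (PicF.XTproj f T') (PicF.XTproj f T) g.left := by
  refine IsPullback.of_right ?_ (XTmap_snd f g) (IsPullback.of_hasPullback f T.hom)
  rw [XTmap_fst, Over.w g]
  exact IsPullback.of_hasPullback f T'.hom

theorem pull_comp {T T' T'' : Over S} (g : T' ⟶ T) (g' : T'' ⟶ T') (I : (PicF.XT f T).IdealSheafData) :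
    HilbD.pull f (g' ≫ g) I = HilbD.pull f g' (HilbD.pull f g I) := by
  rw [pull_eq, pull_eq, pull_eq, XTmap_comp, Scheme.IdealSheafData.comap_comp]

theorem pull_mul {T T' : Over S} (g : T' ⟶ T) (I J : (PicF.XT f T).IdealSheafData) :
    HilbD.pull f g (I * J) = HilbD.pull f g I * HilbD.pull f g J := by
  rw [pull_eq, pull_eq, pull_eq, BlowCompLib.comap_mul]

theorem pull_deg {T T' : Over S} (g : T' ⟶ T) {I : (PicF.XT f T).IdealSheafData} {d : ℕ}
    (h : Mor2.IsFinLocFreeOfDeg d (I.subschemeι ≫ PicF.XTproj f T)) :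
    Mor2.IsFinLocFreeOfDeg d ((HilbD.pull f g I).subschemeι ≫ PicF.XTproj f T') := by
  rw [pull_eq]
  exact deg_comap (isPullback_XTmap f g) h

theorem secGraph_deg [IsSeparated f] (T : Over S) (x : T.left ⟶ X) (hx : x ≫ f = T.hom) :
    IsClosedImmersion (pullback.lift x (𝟙 T.left) (by simpa using hx) : T.left ⟶ PicF.XT f T) ∧
      Mor2.IsFinLocFreeOfDeg 1 ((HilbD.secGraph f T x hx).subschemeι ≫ PicF.XTproj f T) :=
  deg_section (pullback.snd f T.hom) _ (pullback.lift_snd _ _ _)

theorem pull_secGraph [IsSeparated f] {T T' : Over S} (g : T' ⟶ T) (x : T.left ⟶ X) (hx : x ≫ f = T.hom) :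
    HilbD.pull f g (HilbD.secGraph f T x hx) =
      HilbD.secGraph f T' (g.left ≫ x) (by rw [Category.assoc, hx, Over.w g]) := by
  haveI := (secGraph_deg f T x hx).1
  rw [pull_eq]
  refine (ker_of_isPullback (b := g.left) (IsPullback.of_right ?_ ?_ (isPullback_XTmap f g).flip)).symm
  · rw [pullback.lift_snd, pullback.lift_snd]
    exact IsPullback.of_horiz_isIso ⟨by simp⟩
  · apply pullback.hom_ext <;> simp [XTmap_fst, XTmap_snd, PicF.XTmap, pullback.map]

end Groth.Agent.HilbCurveLib
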