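import Groth.Agent.HilbCurveLib.Ring
import Groth.Agent.IdealStalkLib.Cartier
import Groth.Agent.RelDivLib.Scheme
import Groth.Agent.RelDivLib.BaseChange
import Groth.Agent.S1570

/-! Closed subschemes of a smooth curve over a base which are quasi-finite and flat are effective Cartier divisors. -/

set_option autoImplicit false
set_option backward.isDefEq.respectTransparency false
set_option backward.defeqAttrib.useBackward true
set_option linter.style.haveILetI false

universe u

open CategoryTheory CategoryTheory.Limits AlgebraicGeometry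

namespace Groth.Agent.HilbCurveLib

section Field

variable {k : Type u} [Field k] {X : Scheme.{u}} (f : X ⟶ Spec (CommRingCat.of k))

/-- The structure map of the sections over an open of a scheme over `Spec k`. -/
noncomputable def secMap (V : X.Opens) : k →+* Γ(X, V) :=
  (f.appLE ⊤ V (fun _ _ => trivial)).hom.comp (Scheme.ΓSpecIso (CommRingCat.of k)).inv.hom

variable [SmoothOfRelativeDimension 1 f]

/-- Standard smooth affine charts form a basis. -/
theorem exists_chart {x : X} {W : X.Opens} (hxW : x ∈ W) :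
    ∃ V : X.affineOpens, x ∈ V.1 ∧ V.1 ≤ W ∧ (secMap f V.1).IsStandardSmoothOfRelativeDimension 1 := by
  obtain ⟨U, hU, V, hV, hxV, e, hs⟩ := SmoothOfRelativeDimension.exists_isStandardSmoothOfRelativeDimension (n := 1) (f := f) x
  have hU' : U = ⊤ := by
    refine top_unique fun z _ => ?_
    rw [Subsingleton.elim z (f x)]
    exact e hxV
  subst hU'
  obtain ⟨t, htW, hxt⟩ := hV.exists_basicOpen_le (V := W) ⟨x, hxW⟩ hxV
  refine ⟨⟨X.basicOpen t, hV.basicOpen t⟩, hxt, htW, ?_⟩
  have h2 : (f.appLE ⊤ V e).hom.IsStandardSmoothOfRelativeDimension 1 := hs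
  have h3 := RingHom.isStandardSmoothOfRelativeDimension_respectsIso.2 _
    (Scheme.ΓSpecIso (CommRingCat.of k)).symm.commRingCatIsoToRingEquiv h2
  letI : Algebra Γ(X, V) Γ(X, X.basicOpen t) := (X.presheaf.map (homOfLE (X.basicOpen_le t)).op).hom.toAlgebra
  haveI : IsLocalization.Away t Γ(X, X.basicOpen t) := hV.isLocalization_basicOpen t
  have h4 := (RingHom.isStandardSmoothOfRelativeDimension_stableUnderCompositionWithLocalizationAway 1).2
    Γ(X, X.basicOpen t) t _ h3
  have h5 : secMap f (X.basicOpen t) = (algebraMap Γ(X, V) Γ(X, X.basicOpen t)).comp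
      ((f.appLE ⊤ V e).hom.comp (Scheme.ΓSpecIso (CommRingCat.of k)).symm.commRingCatIsoToRingEquiv.toRingHom) := by
    rw [← RingHom.comp_assoc]
    show ((f.appLE ⊤ (X.basicOpen t) _).hom).comp _ = _
    rw [← Scheme.Hom.appLE_map f e (homOfLE (X.basicOpen_le t)).op]
    rfl
  exact h5 ▸ h4

omit [SmoothOfRelativeDimension 1 f] in
/-- The sections of a closed subscheme over an affine open, as a quotient over the field. -/
theorem quasiFinite_quot_iff (I : X.IdealSheafData) (V : X.affineOpens) :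
    letI := (secMap f V.1).toAlgebra
    Algebra.QuasiFinite k (Γ(X, V.1) ⧸ I.ideal V) ↔
      ((I.subschemeι ≫ f).appLE ⊤ (I.subschemeι ⁻¹ᵁ V.1) (fun _ _ => trivial)).hom.QuasiFinite := by
  letI := (secMap f V.1).toAlgebra
  let j := I.subschemeι
  let q : Γ(X, V.1) →+* Γ(I.subscheme, j ⁻¹ᵁ V.1) := (j.app V.1).hom
  have hk : RingHom.ker q = I.ideal V := I.ker_subschemeι_app V
  let φ := ((j ≫ f).appLE ⊤ (j ⁻¹ᵁ V.1) (fun _ _ => trivial)).hom
  letI := (φ.comp (Scheme.ΓSpecIso (CommRingCat.of k)).inv.hom).toAlgebra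
  let eq : (Γ(X, V.1) ⧸ I.ideal V) ≃+* Γ(I.subscheme, j ⁻¹ᵁ V.1) :=
    (Ideal.quotEquivOfEq hk.symm).trans (RingHom.quotientKerEquivOfSurjective (f := q) (j.app_surjective V.1 V.2))
  have h2 : f.appLE ⊤ V.1 (fun _ _ => trivial) ≫ j.app V.1 = (j ≫ f).appLE ⊤ (j ⁻¹ᵁ V.1) (fun _ _ => trivial) := by
    rw [Scheme.Hom.app_eq_appLE, Scheme.Hom.appLE_comp_appLE]
  let E : (Γ(X, V.1) ⧸ I.ideal V) ≃ₐ[k] Γ(I.subscheme, j ⁻¹ᵁ V.1) :=
    AlgEquiv.ofRingEquiv (f := eq) fun a => by
      show q ((f.appLE ⊤ V.1 (fun _ _ => trivial)).hom _) = φ _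
      exact congr($(h2).hom ((Scheme.ΓSpecIso (CommRingCat.of k)).inv.hom a))
  rw [Algebra.QuasiFinite.iff_of_algEquiv E, ← RingHom.quasiFinite_algebraMap]
  show (φ.comp _).QuasiFinite ↔ φ.QuasiFinite
  exact RingHom.QuasiFinite.respectsIso.cancel_left_isIso (Scheme.ΓSpecIso (CommRingCat.of k)).inv _

theorem isEffCartier_of_qf_field (I : X.IdealSheafData) [LocallyQuasiFinite (I.subschemeι ≫ f)] :
    BlowUp.IsEffCartierIdeal I := by
  haveI : Smooth f := SmoothOfRelativeDimension.smooth 1 f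
  haveI : IsLocallyNoetherian X := LocallyOfFiniteType.isLocallyNoetherian f
  refine Groth.Agent.S1570.result X I fun x hx U hxU => ?_
  obtain ⟨V, hxV, hVU, hs⟩ := exists_chart f (W := U.1) hxU
  have hgerm : X.presheaf.germ U.1 x hxU = X.presheaf.map (homOfLE hVU).op ≫ X.presheaf.germ V.1 x hxV :=
    (X.presheaf.germ_res (homOfLE hVU) x hxV).symm
  rw [hgerm, CommRingCat.hom_comp, ← Ideal.map_map]
  erw [I.map_ideal (U := V) (V := U) hVU]
  letI := (secMap f V.1).toAlgebra
  haveI : Algebra.IsStandardSmoothOfRelativeDimension 1 k Γ(X, V.1) := hs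
  haveI : Algebra.QuasiFinite k (Γ(X, V.1) ⧸ I.ideal V) :=
    (quasiFinite_quot_iff f I V).2 (HasRingHomProperty.appLE (P := @LocallyQuasiFinite) _ inferInstance
      ⟨⊤, isAffineOpen_top _⟩ ⟨_, V.2.preimage I.subschemeι⟩ _)
  let O := X.presheaf.stalk x
  letI : Algebra Γ(X, V.1) O := TopCat.Presheaf.algebra_section_stalk X.presheaf ⟨x, hxV⟩
  let p : Ideal Γ(X, V.1) := (V.2.primeIdealOf ⟨x, hxV⟩).asIdeal
  haveI : IsLocalization.AtPrime O p := V.2.isLocalization_stalk ⟨x, hxV⟩
  have hp : I.ideal V ≤ p := fun r hr => by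
    by_contra hrp
    have h1 : IsUnit (algebraMap Γ(X, V.1) O r) := IsLocalization.map_units O (⟨r, hrp⟩ : p.primeCompl)
    refine (show x ∈ X.zeroLocus (I.ideal V : Set Γ(X, V.1)) from
      (Scheme.IdealSheafData.mem_support_iff_of_mem (U := V) hxV).1 hx) |> fun h => ?_
    rw [Scheme.mem_zeroLocus_iff] at h
    exact h r hr ((X.mem_basicOpen r x hxV).2 h1)
  obtain ⟨g, hg, hgI⟩ := exists_generator k Γ(X, V.1) (I.ideal V) p hp
  let e := IsLocalization.algEquiv p.primeCompl (Localization.AtPrime p) O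
  refine ⟨e g, ?_, ?_⟩
  · exact mem_nonZeroDivisors_iff_right.2 fun z hz => e.symm.injective (by
      rw [map_zero]
      refine mem_nonZeroDivisors_iff_right.1 hg _ ?_
      apply e.injective
      rw [map_mul, e.apply_symm_apply, hz, map_zero])
  · show (I.ideal V).map (algebraMap Γ(X, V.1) O) = _
    rw [← e.toAlgHom.comp_algebraMap, ← Ideal.map_map, hgI, Ideal.map_span, Set.image_singleton]
    rfl

theorem lqf_of_effCartier_field (I : X.IdealSheafData) (hI : BlowUp.IsEffCartierIdeal I) :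
    LocallyQuasiFinite (I.subschemeι ≫ f) := by
  rw [HasRingHomProperty.iff_exists_appLE (P := @LocallyQuasiFinite)
    (RingHom.QuasiFinite.stableUnderComposition.stableUnderCompositionWithLocalizationAway
      RingHom.QuasiFinite.holdsForLocalizationAway).left]
  intro z
  obtain ⟨U, hzU, g, hg, hIg⟩ := hI (I.subschemeι z)
  obtain ⟨V₀, hzV₀, hle, -⟩ := exists_chart f (W := U.1) hzU
  obtain ⟨t, htle, hzt⟩ := U.2.exists_basicOpen_le (V := V₀.1) ⟨_, hzV₀⟩ hzU
  obtain ⟨g₁, hg₁, hI₁⟩ := RelDivLib.generator_res I U t hg hIg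
  -- shrink to a standard smooth chart which is basic in the principal one
  obtain ⟨V₁, hzV₁, hle₁, hs⟩ := exists_chart f (W := X.basicOpen t) hzt
  obtain ⟨a, b, hab, hza⟩ := exists_basicOpen_le_affine_inter (U.2.basicOpen t) V₁.2 _ ⟨hzt, hzV₁⟩
  obtain ⟨g₂, hg₂, hI₂⟩ := RelDivLib.generator_res I (X.affineBasicOpen (U := U) t) a hg₁ hI₁
  have hV : X.affineBasicOpen (U := X.affineBasicOpen (U := U) t) a = X.affineBasicOpen (U := V₁) b := Subtype.ext hab
  have hs' : (secMap f (X.basicOpen b)).IsStandardSmoothOfRelativeDimension 1 := by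
    letI : Algebra Γ(X, V₁.1) Γ(X, X.basicOpen b) := (X.presheaf.map (homOfLE (X.basicOpen_le b)).op).hom.toAlgebra
    haveI : IsLocalization.Away b Γ(X, X.basicOpen b) := V₁.2.isLocalization_basicOpen b
    have h4 := (RingHom.isStandardSmoothOfRelativeDimension_stableUnderCompositionWithLocalizationAway 1).2
      Γ(X, X.basicOpen b) b _ hs
    have h5 : secMap f (X.basicOpen b) = (algebraMap Γ(X, V₁.1) Γ(X, X.basicOpen b)).comp (secMap f V₁.1) := by
      unfold secMap
      rw [← RingHom.comp_assoc]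
      show ((f.appLE ⊤ (X.basicOpen b) _).hom).comp _ = _
      rw [← Scheme.Hom.appLE_map f (U := ⊤) (fun _ _ => trivial : V₁.1 ≤ f ⁻¹ᵁ ⊤) (homOfLE (X.basicOpen_le b)).op]
      rfl
    exact h5 ▸ h4
  let V := X.affineBasicOpen (U := V₁) b
  obtain ⟨g₃, hg₃, hI₃⟩ : ∃ g₃ ∈ nonZeroDivisors Γ(X, V.1), I.ideal V = Ideal.span {g₃} := by
    show ∃ g₃ ∈ nonZeroDivisors Γ(X, (X.affineBasicOpen (U := V₁) b).1), I.ideal (X.affineBasicOpen (U := V₁) b) = Ideal.span {g₃}
    rw [← hV]
    exact ⟨g₂, hg₂, hI₂⟩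
  refine ⟨⟨⊤, isAffineOpen_top _⟩, ⟨I.subschemeι ⁻¹ᵁ V.1, V.2.preimage I.subschemeι⟩, ?_, fun _ _ => trivial, ?_⟩
  · show I.subschemeι z ∈ V.1
    show I.subschemeι z ∈ (X.affineBasicOpen (U := V₁) b).1
    rw [← hV]
    exact hza
  · refine (quasiFinite_quot_iff f I V).1 ?_
    letI := (secMap f V.1).toAlgebra
    haveI : Algebra.IsStandardSmoothOfRelativeDimension 1 k Γ(X, V.1) := hs'
    rw [hI₃]
    exact quasiFinite_quotient_span k Γ(X, V.1) g₃ hg₃

end Field

section General

variable {X S : Scheme.{u}} (f : X ⟶ S) [SmoothOfRelativeDimension 1 f]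

omit [SmoothOfRelativeDimension 1 f] in
theorem isPullback_comap_fibre (I : X.IdealSheafData) (s : S) :
    IsPullback ((I.comap (f.fiberι s)).subschemeι ≫ f.fiberToSpecResidueField s)
      ((I.comapIso (f.fiberι s)).hom ≫ pullback.snd (f.fiberι s) I.subschemeι)
      (S.fromSpecResidueField s) (I.subschemeι ≫ f) := by
  have h1 : IsPullback (I.comap (f.fiberι s)).subschemeι
      ((I.comapIso (f.fiberι s)).hom ≫ pullback.snd (f.fiberι s) I.subschemeι) (f.fiberι s) I.subschemeι :=
    IsPullback.of_iso_pullback ⟨by rw [← I.comapIso_hom_fst (f.fiberι s), Category.assoc, pullback.condition, Category.assoc]⟩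
      (I.comapIso _) (by simp) (by simp)
  exact h1.flip.paste_vert (IsPullback.of_hasPullback f (S.fromSpecResidueField s)) |>.flip

instance smooth_fibre (s : S) : SmoothOfRelativeDimension 1 (f.fiberToSpecResidueField s) := by
  haveI := smoothOfRelativeDimension_isStableUnderBaseChange (n := 1)
  exact MorphismProperty.pullback_snd f (S.fromSpecResidueField s) inferInstance

theorem isEffCartier_of_lqf (I : X.IdealSheafData) [LocallyQuasiFinite (I.subschemeι ≫ f)]
    [Flat (I.subschemeι ≫ f)] [LocallyOfFinitePresentation (I.subschemeι ≫ f)] : BlowUp.IsEffCartierIdeal I := by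
  haveI : Smooth f := SmoothOfRelativeDimension.smooth 1 f
  refine IdealStalkLib.isEffCartier_of_fibres f I fun s => ?_
  haveI : LocallyQuasiFinite ((I.comap (f.fiberι s)).subschemeι ≫ f.fiberToSpecResidueField s) :=
    MorphismProperty.of_isPullback (isPullback_comap_fibre f I s).flip inferInstance
  exact isEffCartier_of_qf_field (f.fiberToSpecResidueField s) (I.comap (f.fiberι s))

theorem lqf_of_effCartier_flat (I : X.IdealSheafData) (hI : BlowUp.IsEffCartierIdeal I) [Flat (I.subschemeι ≫ f)] :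
    LocallyQuasiFinite (I.subschemeι ≫ f) := by
  refine .of_fiberToSpecResidueField _ fun s => ?_
  have h := isPullback_comap_fibre f I s
  haveI : LocallyQuasiFinite ((I.comap (f.fiberι s)).subschemeι ≫ f.fiberToSpecResidueField s) :=
    lqf_of_effCartier_field (f.fiberToSpecResidueField s) _
      (RelDivLib.isEffCartier_baseChange f I hI (S.fromSpecResidueField s))
  refine (MorphismProperty.cancel_left_of_respectsIso @LocallyQuasiFinite h.flip.isoPullback.hom _).1 ?_
  show LocallyQuasiFinite (h.flip.isoPullback.hom ≫ pullback.snd _ _)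
  rw [h.flip.isoPullback_hom_snd]
  infer_instance

omit [SmoothOfRelativeDimension 1 f] in
theorem lfp_subschemeι (I : X.IdealSheafData) (hI : BlowUp.IsEffCartierIdeal I) :
    LocallyOfFinitePresentation I.subschemeι := by
  rw [HasRingHomProperty.iff_exists_appLE (P := @LocallyOfFinitePresentation)
    (RingHom.finitePresentation_stableUnderComposition.stableUnderCompositionWithLocalizationAway
      RingHom.finitePresentation_holdsForLocalizationAway).left]
  intro z
  obtain ⟨U, hzU, g, -, hIg⟩ := hI (I.subschemeι z)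
  refine ⟨U, ⟨I.subschemeι ⁻¹ᵁ U.1, U.2.preimage I.subschemeι⟩, hzU, le_rfl, ?_⟩
  show (I.subschemeι.appLE U.1 (I.subschemeι ⁻¹ᵁ U.1) le_rfl).hom.FinitePresentation
  rw [← Scheme.Hom.app_eq_appLE]
  refine RingHom.FinitePresentation.of_surjective _ (I.subschemeι.app_surjective U.1 U.2) ?_
  rw [I.ker_subschemeι_app U, hIg]
  exact Submodule.fg_span_singleton g

end General

end Groth.Agent.HilbCurveLib
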