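import Groth.Agent.HilbCurveLib.Proper

/-! The degree of a sum of divisors on a smooth curve is the sum of the degrees. -/

set_option autoImplicit false
set_option backward.isDefEq.respectTransparency false
set_option backward.defeqAttrib.useBackward true
set_option linter.style.haveILetI false

universe u

open CategoryTheory CategoryTheory.Limits AlgebraicGeometry

namespace Groth.Agent.HilbCurveLib

section Field

variable {k : Type u} [Field k]

theorem finrank_finite {T : Scheme.{u}} (c : T ⟶ Spec (CommRingCat.of k)) [IsFinite c] (t : Spec (CommRingCat.of k)) :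
    letI := (secMap c ⊤).toAlgebra
    Module.Finite k Γ(T, ⊤) ∧ c.finrank t = Module.finrank k Γ(T, ⊤) := by
  letI := (secMap c ⊤).toAlgebra
  haveI : IsAffine T := isAffine_of_isAffineHom c
  have hφ : Spec.map (CommRingCat.ofHom (algebraMap k Γ(T, ⊤))) = T.isoSpec.inv ≫ c := by
    have h1 : CommRingCat.ofHom (algebraMap k Γ(T, ⊤)) = (Scheme.ΓSpecIso (CommRingCat.of k)).inv ≫ c.appTop := by
      ext a
      show (c.appLE ⊤ ⊤ _).hom ((Scheme.ΓSpecIso _).inv.hom a) = (c.app ⊤).hom ((Scheme.ΓSpecIso _).inv.hom a)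
      rw [Scheme.Hom.app_eq_appLE]
      rfl
    rw [h1, Spec.map_comp, ← cancel_epi T.isoSpec.hom, Iso.hom_inv_id_assoc, ← Category.assoc,
      Scheme.isoSpec_hom_naturality, Category.assoc, Scheme.isoSpec_Spec_hom, ← Spec.map_comp, Iso.inv_hom_id,
      Spec.map_id, Category.comp_id]
  haveI hf : IsFinite (Spec.map (CommRingCat.ofHom (algebraMap k Γ(T, ⊤)))) := by rw [hφ]; infer_instance
  haveI hfin : Module.Finite k Γ(T, ⊤) := RingHom.finite_algebraMap.1 ((IsFinite.SpecMap_iff _).1 hf)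
  refine ⟨hfin, ?_⟩
  rw [← Scheme.Hom.finrank_comp_left_of_isIso T.isoSpec.inv c, ← hφ, Scheme.Hom.finrank_SpecMap_algebraMap,
    Module.rankAtStalk_eq_finrank_of_free]
  rfl

variable {X : Scheme.{u}} (f : X ⟶ Spec (CommRingCat.of k))

/-- The sections of a finite closed subscheme are the product of its sections on separated charts. -/
theorem finrank_eq_sum (K : X.IdealSheafData) [IsFinite (K.subschemeι ≫ f)] {ι : Type u} [Fintype ι] (U : ι → X.affineOpens)
    (hcov : (K.support : Set X) ⊆ ⋃ i, ((U i).1 : Set X))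
    (hdis : Pairwise fun i j => ∀ z ∈ K.support, z ∈ (U i).1 → z ∉ (U j).1) (t : Spec (CommRingCat.of k)) :
    (∀ i, letI := (secMap f (U i).1).toAlgebra; Module.Finite k (Γ(X, (U i).1) ⧸ K.ideal (U i))) ∧
    (K.subschemeι ≫ f).finrank t =
      ∑ i, letI := (secMap f (U i).1).toAlgebra; Module.finrank k (Γ(X, (U i).1) ⧸ K.ideal (U i)) := by
  classical
  let T := K.subscheme
  let c := K.subschemeι ≫ f
  let O : ι → T.Opens := fun i => K.subschemeι ⁻¹ᵁ (U i).1
  letI : Algebra k Γ(T, ⊤) := (secMap c ⊤).toAlgebra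
  letI : ∀ i, Algebra k Γ(T, O i) := fun i => (secMap c (O i)).toAlgebra
  let Φ : Γ(T, ⊤) →ₐ[k] ∀ i, Γ(T, O i) :=
    { toRingHom := Pi.ringHom fun i => (T.presheaf.map (homOfLE (le_top : O i ≤ ⊤)).op).hom
      commutes' := fun a => funext fun i => by
        show (c.appLE ⊤ ⊤ _ ≫ T.presheaf.map _).hom _ = (c.appLE ⊤ (O i) _).hom _
        rw [Scheme.Hom.appLE_map] }
  have hmem : ∀ z : T, K.subschemeι z ∈ K.support := fun z => by
    rw [← SetLike.mem_coe, ← K.range_subschemeι]; exact Set.mem_range_self z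
  have hO : (⊤ : T.Opens) ≤ iSup O := fun z _ => by
    obtain ⟨i, hi⟩ := Set.mem_iUnion.1 (hcov (hmem z))
    exact TopologicalSpace.Opens.mem_iSup.2 ⟨i, hi⟩
  have hbij : Function.Bijective Φ := by
    refine ⟨fun a b hab => ?_, fun s => ?_⟩
    · exact T.sheaf.eq_of_locally_eq' O ⊤ (fun i => homOfLE le_top) hO a b fun i => congrFun hab i
    · obtain ⟨a, ha, -⟩ := T.sheaf.existsUnique_gluing' O ⊤ (fun i => homOfLE le_top) hO s (by
        intro i j
        rcases eq_or_ne i j with rfl | hij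
        · rfl
        · have hbot : O i ⊓ O j = ⊥ := le_bot_iff.1 fun z hz => hdis hij _ (hmem z) hz.1 hz.2
          haveI : Subsingleton Γ(T, O i ⊓ O j) := by rw [hbot]; infer_instance
          exact Subsingleton.elim (α := Γ(T, O i ⊓ O j)) _ _)
      exact ⟨a, funext ha⟩
  obtain ⟨hfin, hrk⟩ := finrank_finite c t
  haveI := hfin
  haveI : ∀ i, Module.Finite k Γ(T, O i) := fun i =>
    Module.Finite.of_surjective ((LinearMap.proj i).comp Φ.toLinearMap) ((Function.surjective_eval i).comp hbij.2)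
  have hE : ∀ i, letI := (secMap f (U i).1).toAlgebra;
      Nonempty ((Γ(X, (U i).1) ⧸ K.ideal (U i)) ≃ₐ[k] Γ(T, O i)) := by
    intro i
    letI := (secMap f (U i).1).toAlgebra
    let q : Γ(X, (U i).1) →+* Γ(T, O i) := (K.subschemeι.app (U i).1).hom
    have hk : RingHom.ker q = K.ideal (U i) := K.ker_subschemeι_app (U i)
    let eq : (Γ(X, (U i).1) ⧸ K.ideal (U i)) ≃+* Γ(T, O i) :=
      (Ideal.quotEquivOfEq hk.symm).trans (RingHom.quotientKerEquivOfSurjective (f := q) (K.subschemeι.app_surjective _ (U i).2))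
    have h2 : f.appLE ⊤ (U i).1 (fun _ _ => trivial) ≫ K.subschemeι.app (U i).1 = c.appLE ⊤ (O i) (fun _ _ => trivial) := by
      rw [Scheme.Hom.app_eq_appLE, Scheme.Hom.appLE_comp_appLE]
    exact ⟨AlgEquiv.ofRingEquiv (f := eq) fun a => congr($(h2).hom ((Scheme.ΓSpecIso (CommRingCat.of k)).inv.hom a))⟩
  refine ⟨fun i => ?_, ?_⟩
  · letI := (secMap f (U i).1).toAlgebra
    obtain ⟨e⟩ := hE i
    exact Module.Finite.equiv e.symm.toLinearEquiv
  · rw [hrk, (LinearEquiv.ofBijective Φ.toLinearMap hbij).finrank_eq, Module.finrank_pi_fintype]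
    refine Finset.sum_congr rfl fun i _ => ?_
    letI := (secMap f (U i).1).toAlgebra
    obtain ⟨e⟩ := hE i
    exact e.toLinearEquiv.finrank_eq.symm

theorem finrank_mul_field (I J : X.IdealSheafData) (hI : BlowUp.IsEffCartierIdeal I) (hJ : BlowUp.IsEffCartierIdeal J)
    [IsFinite (I.subschemeι ≫ f)] [IsFinite (J.subschemeι ≫ f)] [IsFinite ((I * J).subschemeι ≫ f)]
    (t : Spec (CommRingCat.of k)) :
    ((I * J).subschemeι ≫ f).finrank t = (I.subschemeι ≫ f).finrank t + (J.subschemeι ≫ f).finrank t := by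
  classical
  let T := (I * J).subscheme
  haveI : Finite T := (Set.finite_univ_iff).1
    (((I * J).subschemeι ≫ f).finite_preimage_singleton t |>.subset fun z _ => Subsingleton.elim _ _)
  haveI : Fintype T := Fintype.ofFinite _
  haveI : DiscreteTopology T := by
    rw [← isDiscrete_univ_iff]
    exact (((I * J).subschemeι ≫ f).isDiscrete_preimage_singleton t).mono fun z _ => Subsingleton.elim _ _
  have hop : ∀ z : T, ∃ U : X.affineOpens, (I * J).subschemeι z ∈ U.1 ∧
      (∀ w : T, (I * J).subschemeι w ∈ U.1 → w = z) ∧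
      (∃ a, a ∈ nonZeroDivisors Γ(X, U.1) ∧ I.ideal U = Ideal.span {a}) ∧
      (∃ b, b ∈ nonZeroDivisors Γ(X, U.1) ∧ J.ideal U = Ideal.span {b}) := by
    intro z
    obtain ⟨O, hO, hOz⟩ := (I * J).subschemeι.isClosedEmbedding.isInducing.isOpen_iff.1 (isOpen_discrete ({z} : Set T))
    obtain ⟨W, V, -, hxV, ⟨a, ha, hIa⟩, b, hb, hJb⟩ := RelDivLib.exists_common_chart (𝟙 X) hI hJ ((I * J).subschemeι z)
    have hzO : (I * J).subschemeι z ∈ O := by
      show z ∈ (I * J).subschemeι ⁻¹' O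
      rw [hOz]; rfl
    obtain ⟨r, hr, hzr⟩ := V.2.exists_basicOpen_le (V := (⟨O, hO⟩ : X.Opens)) ⟨_, hzO⟩ hxV
    refine ⟨X.affineBasicOpen (U := V) r, hzr, fun w hw => ?_, RelDivLib.generator_res I V r ha hIa,
      RelDivLib.generator_res J V r hb hJb⟩
    have h1 : w ∈ (I * J).subschemeι ⁻¹' O := hr hw
    rwa [hOz] at h1
  choose U hzU hU hUI hUJ using hop
  have hsup : ∀ z : X, z ∈ (I * J).support → ∃ w : T, (I * J).subschemeι w = z := fun z hz => by
    rwa [← SetLike.mem_coe, ← (I * J).range_subschemeι] at hz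
  have key : ∀ K : X.IdealSheafData, (K.support : Set X) ⊆ ((I * J).support : Set X) →
      (K.support : Set X) ⊆ ⋃ z, ((U z).1 : Set X) ∧
      Pairwise (fun i j => ∀ z ∈ K.support, z ∈ (U i).1 → z ∉ (U j).1) := by
    intro K hK
    refine ⟨fun z hz => ?_, fun i j hij z hz hi hj => ?_⟩
    · obtain ⟨w, rfl⟩ := hsup z (hK hz)
      exact Set.mem_iUnion.2 ⟨w, hzU w⟩
    · obtain ⟨w, rfl⟩ := hsup z (hK hz)
      exact hij ((hU i w hi).symm.trans (hU j w hj))
  obtain ⟨fIJ, eIJ⟩ := finrank_eq_sum f (I * J) U (key _ subset_rfl).1 (key _ subset_rfl).2 t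
  have sI : (I.support : Set X) ⊆ ((I * J).support : Set X) := by simp
  have sJ : (J.support : Set X) ⊆ ((I * J).support : Set X) := by simp
  obtain ⟨-, eI⟩ := finrank_eq_sum f I U (key _ sI).1 (key _ sI).2 t
  obtain ⟨-, eJ⟩ := finrank_eq_sum f J U (key _ sJ).1 (key _ sJ).2 t
  rw [eIJ, eI, eJ, ← Finset.sum_add_distrib]
  refine Finset.sum_congr rfl fun z _ => ?_
  letI := (secMap f (U z).1).toAlgebra
  obtain ⟨a, ha, hIa⟩ := hUI z
  obtain ⟨b, -, hJb⟩ := hUJ z
  have hfin := fIJ z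
  have hm : (I * J).ideal (U z) = Ideal.span {a * b} := by
    rw [Scheme.IdealSheafData.ideal_mul, Pi.mul_apply, hIa, hJb, Ideal.span_singleton_mul_span_singleton]
  rw [hm] at hfin
  rw [hm, hIa, hJb]
  obtain ⟨φ, ψ, h1, h2, h3⟩ := RelDivLib.exists_exact_mul (A := k) (b := b) ha
  haveI := hfin
  have h4 := LinearMap.finrank_range_add_finrank_ker ψ
  rw [LinearMap.range_eq_top.2 h2, finrank_top, (LinearMap.exact_iff.1 h3), LinearMap.finrank_range_of_inj h1] at h4
  exact h4.symm

end Field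

section General

variable {X S : Scheme.{u}} (f : X ⟶ S)

theorem finrank_mul (I J : X.IdealSheafData) (hI : BlowUp.IsEffCartierIdeal I) (hJ : BlowUp.IsEffCartierIdeal J)
    [Flat (I.subschemeι ≫ f)] [Flat (J.subschemeι ≫ f)] [Flat ((I * J).subschemeι ≫ f)]
    [IsFinite (I.subschemeι ≫ f)] [IsFinite (J.subschemeι ≫ f)] [IsFinite ((I * J).subschemeι ≫ f)] (s : S) :
    ((I * J).subschemeι ≫ f).finrank s = (I.subschemeι ≫ f).finrank s + (J.subschemeι ≫ f).finrank s := by
  let t : Spec (S.residueField s) := IsLocalRing.closedPoint (S.residueField s)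
  have ht : (S.fromSpecResidueField s) t = s := S.fromSpecResidueField_apply s t
  have key : ∀ (K : X.IdealSheafData) [Flat (K.subschemeι ≫ f)] [IsFinite (K.subschemeι ≫ f)],
      IsFinite ((K.comap (f.fiberι s)).subschemeι ≫ f.fiberToSpecResidueField s) ∧
      ((K.comap (f.fiberι s)).subschemeι ≫ f.fiberToSpecResidueField s).finrank t = (K.subschemeι ≫ f).finrank s := by
    intro K _ _
    refine ⟨MorphismProperty.of_isPullback (isPullback_comap_fibre f K s).flip inferInstance, ?_⟩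
    rw [Scheme.Hom.finrank_of_isPullback _ _ _ _ (isPullback_comap_fibre f K s).flip t, ht]
  obtain ⟨i1, e1⟩ := key I
  obtain ⟨i2, e2⟩ := key J
  obtain ⟨i3, e3⟩ := key (I * J)
  rw [BlowCompLib.comap_mul] at i3 e3
  rw [← e1, ← e2, ← e3]
  exact finrank_mul_field (f.fiberToSpecResidueField s) (I.comap (f.fiberι s)) (J.comap (f.fiberι s)) (RelDivLib.isEffCartier_baseChange f I hI _)
    (RelDivLib.isEffCartier_baseChange f J hJ _) t

end General

end Groth.Agent.HilbCurveLib
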