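import Groth.Agent.BlowCompLib.Compose

/-! Differences of effective Cartier ideals. -/

set_option autoImplicit false
set_option backward.isDefEq.respectTransparency false
set_option backward.defeqAttrib.useBackward true
set_option linter.style.haveILetI false

universe u

open CategoryTheory CategoryTheory.Limits AlgebraicGeometry

namespace Groth.Agent.HilbCurveLib

variable {X : Scheme.{u}}

theorem ideal_fg_of_effCartier (I : X.IdealSheafData) (hI : BlowUp.IsEffCartierIdeal I) (U : X.affineOpens) :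
    (I.ideal U).FG := by
  haveI : LocallyOfFinitePresentation I.subschemeι := by
    rw [HasRingHomProperty.iff_exists_appLE (P := @LocallyOfFinitePresentation)
      (RingHom.finitePresentation_stableUnderComposition.stableUnderCompositionWithLocalizationAway
        RingHom.finitePresentation_holdsForLocalizationAway).left]
    intro z
    obtain ⟨U, hzU, g, -, hIg⟩ := hI (I.subschemeι z)
    refine ⟨U, ⟨I.subschemeι ⁻¹ᵁ U.1, U.2.preimage I.subschemeι⟩, hzU, le_rfl, ?_⟩
    show (I.subschemeι.appLE U.1 (I.subschemeι ⁻¹ᵁ U.1) le_rfl).hom.FinitePresentation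
    rw [← Scheme.Hom.app_eq_appLE]
    refine RingHom.FinitePresentation.of_surjective _ (I.subschemeι.app_surjective U.1 U.2) ?_
    rw [I.ker_subschemeι_app U, hIg]
    exact Submodule.fg_span_singleton g
  have h1 := I.subschemeι.finitePresentation_appLE U.2 (U.2.preimage I.subschemeι) le_rfl
  rw [← Scheme.Hom.app_eq_appLE] at h1
  letI := (I.subschemeι.app U.1).hom.toAlgebra
  haveI : Algebra.FinitePresentation Γ(X, U.1) Γ(I.subscheme, I.subschemeι ⁻¹ᵁ U.1) := h1
  rw [← I.ker_subschemeι_app U]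
  exact Algebra.FinitePresentation.ker_fG_of_surjective (Algebra.ofId Γ(X, U.1) Γ(I.subscheme, I.subschemeι ⁻¹ᵁ U.1))
    (I.subschemeι.app_surjective U.1 U.2)

/-- The elements carrying `I` into `J`. -/
def colonIdeal {R : Type u} [CommRing R] (J I : Ideal R) : Ideal R where
  carrier := {z | ∀ a ∈ I, z * a ∈ J}
  add_mem' hx hy a ha := by rw [add_mul]; exact add_mem (hx a ha) (hy a ha)
  zero_mem' a _ := by rw [zero_mul]; exact zero_mem _
  smul_mem' r x hx a ha := by rw [smul_eq_mul, mul_assoc]; exact J.mul_mem_left r (hx a ha)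

theorem colonIdeal_map {R T : Type u} [CommRing R] [CommRing T] [Algebra R T] (r : R) [IsLocalization.Away r T]
    (J I : Ideal R) (hI : I.FG) :
    (colonIdeal J I).map (algebraMap R T) = colonIdeal (J.map (algebraMap R T)) (I.map (algebraMap R T)) := by
  classical
  refine le_antisymm (Ideal.map_le_iff_le_comap.2 fun z hz => ?_) fun z hz => ?_
  · rw [Ideal.mem_comap]
    intro a ha
    induction ha using Submodule.span_induction with
    | mem w hw =>
      obtain ⟨w, hw, rfl⟩ := hw
      rw [← map_mul]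
      exact Ideal.mem_map_of_mem _ (hz w hw)
    | zero => rw [mul_zero]; exact zero_mem _
    | add u v _ _ hu hv => rw [mul_add]; exact add_mem hu hv
    | smul s u _ hu => rw [smul_eq_mul, mul_left_comm]; exact Ideal.mul_mem_left _ _ hu
  · obtain ⟨⟨a, s⟩, has⟩ := IsLocalization.surj (Submonoid.powers r) z
    obtain ⟨G, hG⟩ := hI
    have h1 : ∀ g ∈ G, ∃ m : ℕ, r ^ m * (a * g) ∈ J := fun g hg => by
      have h2 : algebraMap R T (a * g) ∈ J.map (algebraMap R T) := by
        rw [map_mul, ← has, mul_right_comm]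
        exact Ideal.mul_mem_right _ _ (hz _ (Ideal.mem_map_of_mem _ (hG ▸ Submodule.subset_span hg)))
      obtain ⟨⟨⟨b, hb⟩, t⟩, hbt⟩ := (IsLocalization.mem_map_algebraMap_iff (Submonoid.powers r) T).1 h2
      rw [← map_mul] at hbt
      obtain ⟨⟨_, c, rfl⟩, hc⟩ := (IsLocalization.eq_iff_exists (Submonoid.powers r) T).1 hbt
      obtain ⟨d, hd⟩ := t.2
      refine ⟨c + d, ?_⟩
      simp only at hc hd
      rw [pow_add, hd, show r ^ c * (t : R) * (a * g) = r ^ c * (a * g * t) by ring, hc]
      exact J.mul_mem_left _ hb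
    choose! m hm using h1
    have h3 : r ^ G.sup m * a ∈ colonIdeal J I := fun w hw => by
      rw [← hG] at hw
      induction hw using Submodule.span_induction with
      | mem g hg =>
        obtain ⟨d, hd⟩ := Nat.exists_eq_add_of_le (Finset.le_sup (f := m) hg)
        rw [hd, pow_add, show r ^ m g * r ^ d * a * g = r ^ d * (r ^ m g * (a * g)) by ring]
        exact J.mul_mem_left _ (hm g hg)
      | zero => rw [mul_zero]; exact zero_mem _
      | add u v _ _ hu hv => rw [mul_add]; exact add_mem hu hv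
      | smul s u _ hu => rw [smul_eq_mul, mul_left_comm]; exact Ideal.mul_mem_left _ _ hu
    have h4 := Ideal.mem_map_of_mem (algebraMap R T) h3
    rw [map_mul, Ideal.unit_mul_mem_iff_mem _ (by rw [map_pow]; exact (IsLocalization.Away.algebraMap_isUnit r).pow _),
      ← has, Ideal.mul_unit_mem_iff_mem _ (IsLocalization.map_units T s)] at h4
    exact h4

/-- `J - I` for an effective Cartier `I`. -/
noncomputable def diff (J I : X.IdealSheafData) (hI : BlowUp.IsEffCartierIdeal I) : X.IdealSheafData where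
  ideal U := colonIdeal (J.ideal U) (I.ideal U)
  map_ideal_basicOpen U r := by
    rw [← J.map_ideal_basicOpen U r, ← I.map_ideal_basicOpen U r]
    letI : Algebra Γ(X, U.1) Γ(X, X.basicOpen r) := (X.presheaf.map (homOfLE (X.basicOpen_le r)).op).hom.toAlgebra
    haveI : IsLocalization.Away r Γ(X, X.basicOpen r) := U.2.isLocalization_basicOpen r
    exact colonIdeal_map (T := Γ(X, X.basicOpen r)) r _ _ (ideal_fg_of_effCartier I hI U)

theorem ext_of_charts {J K : X.IdealSheafData} (h : ∀ x : X, ∃ V : X.affineOpens, x ∈ V.1 ∧ J.ideal V = K.ideal V) :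
    J = K :=
  Scheme.IdealSheafData.ext_of_iSup_eq_top (ι := {V : X.affineOpens // J.ideal V = K.ideal V}) (fun V => V.1)
    (top_le_iff.1 fun x _ => by
      obtain ⟨V, hx, hV⟩ := h x
      exact TopologicalSpace.Opens.mem_iSup.2 ⟨⟨V, hV⟩, hx⟩)
    fun V => V.2

theorem colonIdeal_mul_span {R : Type u} [CommRing R] {a : R} (ha : a ∈ nonZeroDivisors R) (B : Ideal R) :
    colonIdeal (Ideal.span {a} * B) (Ideal.span {a}) = B := by
  ext z
  constructor
  · intro hz
    obtain ⟨w, hw, hwz⟩ := Ideal.mem_span_singleton_mul.1 (hz a (Ideal.mem_span_singleton_self a))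
    rw [mul_comm z a] at hwz
    rwa [← (mul_cancel_left_mem_nonZeroDivisors ha).1 hwz]
  · intro hz w hw
    rw [mul_comm z]
    exact Ideal.mul_mem_mul hw hz

/-- Effective Cartier ideals cancel. -/
theorem mul_left_cancel_of_effCartier {I J K : X.IdealSheafData} (hI : BlowUp.IsEffCartierIdeal I)
    (h : I * J = I * K) : J = K := by
  refine ext_of_charts fun x => ?_
  obtain ⟨V, hx, a, ha, hIa⟩ := hI x
  refine ⟨V, hx, ?_⟩
  have h1 := congrArg (fun L => colonIdeal (L.ideal V) (I.ideal V)) h
  simpa only [Scheme.IdealSheafData.ideal_mul, Pi.mul_apply, hIa, colonIdeal_mul_span ha] using h1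

theorem diff_spec {J I : X.IdealSheafData} (hI : BlowUp.IsEffCartierIdeal I) (hJ : BlowUp.IsEffCartierIdeal J)
    (hle : J ≤ I) : I * diff J I hI = J ∧ BlowUp.IsEffCartierIdeal (diff J I hI) := by
  have key : ∀ x : X, ∃ V : X.affineOpens, x ∈ V.1 ∧ ∃ a b, b ∈ nonZeroDivisors Γ(X, V.1) ∧
      I.ideal V = Ideal.span {a} ∧ (diff J I hI).ideal V = Ideal.span {b} ∧ J.ideal V = Ideal.span {a * b} := by
    intro x
    obtain ⟨W, V, -, hx, ⟨a, ha, hIa⟩, c, hc, hJc⟩ := RelDivLib.exists_common_chart (𝟙 X) hI hJ x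
    obtain ⟨b, rfl⟩ := Ideal.mem_span_singleton.1 (hIa ▸ hle V (hJc ▸ Ideal.mem_span_singleton_self c))
    refine ⟨V, hx, a, b, (mul_mem_nonZeroDivisors.1 hc).2, hIa, ?_, hJc⟩
    show colonIdeal (J.ideal V) (I.ideal V) = _
    rw [hJc, hIa, ← Ideal.span_singleton_mul_span_singleton, colonIdeal_mul_span ha]
  refine ⟨ext_of_charts fun x => ?_, fun x => ?_⟩
  · obtain ⟨V, hx, a, b, -, h1, h2, h3⟩ := key x
    refine ⟨V, hx, ?_⟩
    rw [Scheme.IdealSheafData.ideal_mul, Pi.mul_apply, h1, h2, h3, Ideal.span_singleton_mul_span_singleton]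
  · obtain ⟨V, hx, a, b, hb, -, h2, -⟩ := key x
    exact ⟨V, hx, b, hb, h2⟩

end Groth.Agent.HilbCurveLib
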