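import Groth.Agent.HilbCurveLib.Scheme
import Groth.Agent.HilbCurveLib.Diff

/-! The union of two proper closed subschemes is proper. -/

set_option autoImplicit false
set_option backward.isDefEq.respectTransparency false
set_option backward.defeqAttrib.useBackward true
set_option linter.style.haveILetI false

universe u

open CategoryTheory CategoryTheory.Limits AlgebraicGeometry

namespace Groth.Agent.HilbCurveLib

variable {D₁ D₂ D S : Scheme.{u}} (j₁ : D₁ ⟶ D) (j₂ : D₂ ⟶ D) [IsClosedImmersion j₁] [IsClosedImmersion j₂]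
  (hj : ∀ z : D, z ∈ Set.range j₁ ∨ z ∈ Set.range j₂) (c : D ⟶ S)

include hj in
theorem universallyClosed_of_union [h₁ : UniversallyClosed (j₁ ≫ c)] [h₂ : UniversallyClosed (j₂ ≫ c)] :
    UniversallyClosed c := by
  constructor
  intro P T i g q sq
  let a₁ := pullback.fst i j₁
  let a₂ := pullback.fst i j₂
  have sq₁ : IsPullback (pullback.snd i j₁) (a₁ ≫ q) (j₁ ≫ c) g :=
    (IsPullback.of_hasPullback i j₁).flip.paste_vert sq.flip
  have sq₂ : IsPullback (pullback.snd i j₂) (a₂ ≫ q) (j₂ ≫ c) g :=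
    (IsPullback.of_hasPullback i j₂).flip.paste_vert sq.flip
  intro C hC
  have e : q '' C = (a₁ ≫ q) '' (a₁ ⁻¹' C) ∪ (a₂ ≫ q) '' (a₂ ⁻¹' C) := by
    apply Set.Subset.antisymm
    · rintro _ ⟨p, hp, rfl⟩
      rcases hj (i p) with h | h
      · obtain ⟨w, hw⟩ : p ∈ Set.range a₁ := by rw [Scheme.Pullback.range_fst]; exact h
        exact .inl ⟨w, by rw [Set.mem_preimage, hw]; exact hp, by rw [Scheme.Hom.comp_apply, hw]⟩
      · obtain ⟨w, hw⟩ : p ∈ Set.range a₂ := by rw [Scheme.Pullback.range_fst]; exact h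
        exact .inr ⟨w, by rw [Set.mem_preimage, hw]; exact hp, by rw [Scheme.Hom.comp_apply, hw]⟩
    · rintro _ (⟨w, hw, rfl⟩ | ⟨w, hw, rfl⟩)
      · exact ⟨a₁ w, hw, rfl⟩
      · exact ⟨a₂ w, hw, rfl⟩
  rw [e]
  exact (h₁.universally_isClosedMap _ _ _ sq₁.flip _ (hC.preimage a₁.continuous)).union
    (h₂.universally_isClosedMap _ _ _ sq₂.flip _ (hC.preimage a₂.continuous))

include hj in
theorem isSeparated_of_union [IsSeparated (j₁ ≫ c)] [IsSeparated (j₂ ≫ c)] : IsSeparated c := by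
  constructor
  let Φ₁ : pullback (j₁ ≫ c) (j₁ ≫ c) ⟶ pullback c c :=
    pullback.map _ _ _ _ j₁ j₁ (𝟙 S) (by simp) (by simp)
  let Φ₂ : pullback (j₂ ≫ c) (j₂ ≫ c) ⟶ pullback c c :=
    pullback.map _ _ _ _ j₂ j₂ (𝟙 S) (by simp) (by simp)
  haveI : IsClosedImmersion Φ₁ :=
    MorphismProperty.pullbackMap (P := @IsClosedImmersion) (f' := c) (g' := c) ‹IsClosedImmersion j₁› ‹IsClosedImmersion j₁› rfl rfl
  haveI : IsClosedImmersion Φ₂ :=
    MorphismProperty.pullbackMap (P := @IsClosedImmersion) (f' := c) (g' := c) ‹IsClosedImmersion j₂› ‹IsClosedImmersion j₂› rfl rfl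
  have e₁ : pullback.diagonal (j₁ ≫ c) ≫ Φ₁ = j₁ ≫ pullback.diagonal c := by
    apply pullback.hom_ext <;> simp [Φ₁, pullback.map]
  have e₂ : pullback.diagonal (j₂ ≫ c) ≫ Φ₂ = j₂ ≫ pullback.diagonal c := by
    apply pullback.hom_ext <;> simp [Φ₂, pullback.map]
  refine IsClosedImmersion.of_isPreimmersion _ ?_
  have e : Set.range (pullback.diagonal c) =
      Set.range (pullback.diagonal (j₁ ≫ c) ≫ Φ₁) ∪ Set.range (pullback.diagonal (j₂ ≫ c) ≫ Φ₂) := by
    apply Set.Subset.antisymm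
    · rintro _ ⟨z, rfl⟩
      rcases hj z with ⟨w, rfl⟩ | ⟨w, rfl⟩
      · exact .inl ⟨w, by rw [e₁, Scheme.Hom.comp_apply]⟩
      · exact .inr ⟨w, by rw [e₂, Scheme.Hom.comp_apply]⟩
    · rintro _ (⟨w, rfl⟩ | ⟨w, rfl⟩)
      · exact ⟨j₁ w, by rw [e₁, Scheme.Hom.comp_apply]⟩
      · exact ⟨j₂ w, by rw [e₂, Scheme.Hom.comp_apply]⟩
  rw [e]
  exact (Scheme.Hom.isClosedEmbedding _).isClosed_range.union (Scheme.Hom.isClosedEmbedding _).isClosed_range

variable {X S : Scheme.{u}} (f : X ⟶ S) [SmoothOfRelativeDimension 1 f]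

theorem isFinite_mul (I J : X.IdealSheafData) (hIJ : BlowUp.IsEffCartierIdeal (I * J))
    [Flat ((I * J).subschemeι ≫ f)] [IsFinite (I.subschemeι ≫ f)] [IsFinite (J.subschemeι ≫ f)] :
    IsFinite ((I * J).subschemeι ≫ f) := by
  haveI : Smooth f := SmoothOfRelativeDimension.smooth 1 f
  have hI : I * J ≤ I := fun U => by rw [Scheme.IdealSheafData.ideal_mul, Pi.mul_apply]; exact Ideal.mul_le_left
  have hJ : I * J ≤ J := fun U => by rw [Scheme.IdealSheafData.ideal_mul, Pi.mul_apply]; exact Ideal.mul_le_right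
  let j₁ := Scheme.IdealSheafData.inclusion hI
  let j₂ := Scheme.IdealSheafData.inclusion hJ
  have e₁ : j₁ ≫ (I * J).subschemeι = I.subschemeι := Scheme.IdealSheafData.inclusion_subschemeι hI
  have e₂ : j₂ ≫ (I * J).subschemeι = J.subschemeι := Scheme.IdealSheafData.inclusion_subschemeι hJ
  have hj : ∀ z : (I * J).subscheme, z ∈ Set.range j₁ ∨ z ∈ Set.range j₂ := by
    intro z
    have hz : (I * J).subschemeι z ∈ ((I * J).support : Set X) := by
      rw [← Scheme.IdealSheafData.range_subschemeι]; exact Set.mem_range_self z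
    rw [Scheme.IdealSheafData.support_mul, TopologicalSpace.Closeds.coe_sup] at hz
    rcases hz with h | h
    · rw [← Scheme.IdealSheafData.range_subschemeι] at h
      obtain ⟨w, hw⟩ := h
      exact .inl ⟨w, (I * J).subschemeι.isClosedEmbedding.injective (by rw [← Scheme.Hom.comp_apply, e₁, hw])⟩
    · rw [← Scheme.IdealSheafData.range_subschemeι] at h
      obtain ⟨w, hw⟩ := h
      exact .inr ⟨w, (I * J).subschemeι.isClosedEmbedding.injective (by rw [← Scheme.Hom.comp_apply, e₂, hw])⟩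
  let c := (I * J).subschemeι ≫ f
  haveI h₁ : IsFinite (j₁ ≫ c) := by rw [← Category.assoc, e₁]; infer_instance
  haveI h₂ : IsFinite (j₂ ≫ c) := by rw [← Category.assoc, e₂]; infer_instance
  haveI := universallyClosed_of_union j₁ j₂ hj c
  haveI := isSeparated_of_union j₁ j₂ hj c
  haveI : IsProper c := {}
  haveI : LocallyQuasiFinite c := lqf_of_effCartier_flat f (I * J) hIJ
  exact .of_isProper_of_locallyQuasiFinite c

end Groth.Agent.HilbCurveLib
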