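import Mathlib

set_option autoImplicit false
universe u

open IsLocalRing

namespace Groth.Agent.HilbCurveLib

variable (k A : Type u) [Field k] [CommRing A] [Algebra k A] [Algebra.IsStandardSmoothOfRelativeDimension 1 k A]

instance isPrincipalIdealRing_line : IsPrincipalIdealRing (MvPolynomial (Fin 1) k) :=
  IsPrincipalIdealRing.of_surjective (MvPolynomial.uniqueAlgEquiv k (Fin 1)).symm.toRingEquiv.toRingHom
    (MvPolynomial.uniqueAlgEquiv k (Fin 1)).symm.surjective

omit [Algebra.IsStandardSmoothOfRelativeDimension 1 k A] in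
/-- A map from the line into a finite algebra kills a nonzero polynomial. -/
theorem comap_ne_bot (φ : MvPolynomial (Fin 1) k →ₐ[k] A) (I : Ideal A) [Module.Finite k (A ⧸ I)] :
    I.comap φ.toRingHom ≠ ⊥ := by
  intro h
  obtain ⟨q, hq, hq0⟩ := Algebra.IsIntegral.isIntegral (R := k) (Ideal.Quotient.mk I (φ (MvPolynomial.X 0)))
  have h1 : Polynomial.aeval (MvPolynomial.X (0 : Fin 1) : MvPolynomial (Fin 1) k) q ∈ I.comap φ.toRingHom := by
    show φ _ ∈ I
    rw [← Polynomial.aeval_algHom_apply, ← Ideal.Quotient.eq_zero_iff_mem]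
    exact (Polynomial.aeval_algHom_apply (Ideal.Quotient.mkₐ k I) _ q).symm.trans hq0
  rw [h, Ideal.mem_bot] at h1
  have h2 := congrArg (MvPolynomial.uniqueAlgEquiv k (Fin 1)) h1
  have hX : MvPolynomial.uniqueAlgEquiv k (Fin 1) (MvPolynomial.X 0) = Polynomial.X := by simp [MvPolynomial.uniqueAlgEquiv]
  rw [map_zero, ← Polynomial.aeval_algHom_apply, hX, Polynomial.aeval_X_left_apply] at h2
  exact hq.ne_zero h2

/-- An ideal with finite quotient of a smooth curve algebra is locally principal, generated by a nonzerodivisor. -/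
theorem exists_generator (J : Ideal A) [Algebra.QuasiFinite k (A ⧸ J)] (p : Ideal A) [p.IsPrime] (hp : J ≤ p) :
    ∃ g ∈ nonZeroDivisors (Localization.AtPrime p),
      J.map (algebraMap A (Localization.AtPrime p)) = Ideal.span {g} := by
  haveI : Module.Finite k (A ⧸ J) := .of_quasiFinite
  haveI : IsArtinianRing (A ⧸ J) := isArtinian_of_tower k inferInstance
  have hmax : ∀ q : Ideal A, q.IsPrime → J ≤ q → q.IsMaximal := fun q hq hJq => by
    haveI := hq
    haveI hq' : (q.map (Ideal.Quotient.mk J)).IsPrime :=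
      Ideal.map_isPrime_of_surjective Ideal.Quotient.mk_surjective (by rwa [Ideal.mk_ker])
    haveI := IsArtinianRing.isMaximal_of_isPrime (q.map (Ideal.Quotient.mk J))
    have := Ideal.comap_isMaximal_of_surjective (Ideal.Quotient.mk J) Ideal.Quotient.mk_surjective
      (K := q.map (Ideal.Quotient.mk J))
    rwa [Ideal.comap_map_of_surjective' _ Ideal.Quotient.mk_surjective, Ideal.mk_ker, sup_eq_left.2 hJq] at this
  haveI : p.IsMaximal := hmax p inferInstance hp
  haveI : Module.Finite k (A ⧸ p) := Module.Finite.of_surjective (Ideal.Quotient.factorₐ k hp).toLinearMap (Ideal.Quotient.factor_surjective hp)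
  obtain ⟨φ, hφ⟩ := Algebra.IsStandardSmoothOfRelativeDimension.exists_etale_mvPolynomial (n := 1) k A
  letI := φ.toRingHom.toAlgebra
  haveI : Algebra.Etale (MvPolynomial (Fin 1) k) A := hφ
  let n : Ideal (MvPolynomial (Fin 1) k) := p.under _
  have hn0 : n ≠ ⊥ := comap_ne_bot k A φ p
  obtain ⟨π, hπ⟩ := IsPrincipalIdealRing.principal n
  have hπ0 : π ≠ 0 := fun h => hn0 (by rw [hπ, h]; simp)
  haveI : p.LiesOver n := ⟨rfl⟩
  letI := Localization.AtPrime.algebraOfLiesOver n p
  have hmap := ((Algebra.isUnramifiedAt_iff_map_eq (MvPolynomial (Fin 1) k) n p).1 inferInstance).2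
  let t := algebraMap A (Localization.AtPrime p) (φ π)
  have hm : maximalIdeal (Localization.AtPrime p) = Ideal.span {t} := by
    rw [← hmap, hπ, Ideal.submodule_span_eq, Ideal.map_span, Set.image_singleton,
      IsScalarTower.algebraMap_apply (MvPolynomial (Fin 1) k) A (Localization.AtPrime p)]
    rfl
  have hA : φ π ∈ nonZeroDivisors A := by
    have h1 : IsSMulRegular A π :=
      Module.Flat.isSMulRegular_of_nonZeroDivisors (mem_nonZeroDivisors_of_ne_zero hπ0)
    refine mem_nonZeroDivisors_iff_right.2 fun z hz => h1 ?_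
    show π • z = π • 0
    rw [smul_zero, Algebra.smul_def, mul_comm]
    exact hz
  have ht : t ∈ nonZeroDivisors (Localization.AtPrime p) :=
    IsLocalization.map_nonZeroDivisors_le p.primeCompl _ ⟨_, hA, rfl⟩
  let JO := J.map (algebraMap A (Localization.AtPrime p))
  have hrad : t ∈ JO.radical := by
    rw [Ideal.radical_eq_sInf, Ideal.mem_sInf]
    rintro q ⟨hJq, hq⟩
    haveI := hq
    have hle : q.comap (algebraMap A (Localization.AtPrime p)) ≤ p := by
      intro z hz
      by_contra hzp
      exact hq.ne_top (Ideal.eq_top_of_isUnit_mem _ hz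
        (IsLocalization.map_units (Localization.AtPrime p) (⟨z, hzp⟩ : p.primeCompl)))
    have := (hmax _ inferInstance (Ideal.map_le_iff_le_comap.1 hJq)).eq_of_le Ideal.IsPrime.ne_top' hle
    show φ π ∈ q.comap (algebraMap A (Localization.AtPrime p))
    rw [this]
    show π ∈ n
    rw [hπ]
    exact Ideal.mem_span_singleton_self π
  have hex : ∃ N, t ^ N ∈ JO := hrad
  classical
  refine ⟨t ^ Nat.find hex, pow_mem ht _, le_antisymm (fun z hz => ?_)
    (Ideal.span_le.2 (Set.singleton_subset_iff.2 (Nat.find_spec hex)))⟩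
  have hj : ∀ j ≤ Nat.find hex, z ∈ Ideal.span {t ^ j} := by
    intro j
    induction j with
    | zero => intro _; rw [pow_zero, Ideal.span_singleton_one]; trivial
    | succ j ih =>
      intro hlt
      obtain ⟨a, rfl⟩ := Ideal.mem_span_singleton'.1 (ih (Nat.le_of_succ_le hlt))
      by_cases ha : IsUnit a
      · exact absurd ((Ideal.unit_mul_mem_iff_mem JO ha).1 hz) (Nat.find_min hex hlt)
      · have ha' : a ∈ Ideal.span {t} := hm ▸ (IsLocalRing.mem_maximalIdeal a).2 ha
        obtain ⟨b, rfl⟩ := Ideal.mem_span_singleton'.1 ha'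
        exact Ideal.mem_span_singleton'.2 ⟨b, by ring⟩
  exact hj _ le_rfl

/-- A nonzerodivisor on a smooth curve algebra has finite quotient. -/
theorem quasiFinite_quotient_span (g : A) (hg : g ∈ nonZeroDivisors A) :
    Algebra.QuasiFinite k (A ⧸ Ideal.span {g}) := by
  obtain ⟨φ, hφ⟩ := Algebra.IsStandardSmoothOfRelativeDimension.exists_etale_mvPolynomial (n := 1) k A
  letI := φ.toRingHom.toAlgebra
  haveI : Algebra.Etale (MvPolynomial (Fin 1) k) A := hφ
  have hmax : ∀ p : Ideal A, p.IsPrime → g ∈ p → p.IsMaximal := by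
    intro p hp hgp
    haveI := hp
    obtain ⟨q, hqmin, hqp⟩ := Ideal.exists_minimalPrimes_le (I := (⊥ : Ideal A)) (J := p) bot_le
    haveI := hqmin.1.1
    have hne : q ≠ p := by
      intro h
      exact Set.disjoint_left.1 (Ideal.disjoint_nonZeroDivisors_of_mem_minimalPrimes hqmin) (h ▸ hgp) hg
    have hne' : p.under (MvPolynomial (Fin 1) k) ≠ ⊥ := by
      intro h
      refine hne (Algebra.QuasiFinite.eq_of_le_of_under_eq (R := MvPolynomial (Fin 1) k) q p hqp ?_)
      rw [h, ← le_bot_iff]
      exact h ▸ Ideal.comap_mono hqp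
    haveI hpmax : (p.under (MvPolynomial (Fin 1) k)).IsMaximal := IsPrime.to_maximal_ideal hne'
    obtain ⟨m, hm, hpm⟩ := p.exists_le_maximal hp.ne_top
    haveI := hm
    have := Algebra.QuasiFinite.eq_of_le_of_under_eq (R := MvPolynomial (Fin 1) k) p m hpm
      (hpmax.eq_of_le Ideal.IsPrime.ne_top' (Ideal.comap_mono hpm))
    rwa [this]
  haveI : Ring.KrullDimLE 0 (A ⧸ Ideal.span {g}) := by
    refine Ring.krullDimLE_zero_iff.2 fun P hP => ?_
    haveI := hP
    haveI := hmax (P.comap (Ideal.Quotient.mk _)) inferInstance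
      (show Ideal.Quotient.mk (Ideal.span {g}) g ∈ P by
        rw [Ideal.Quotient.eq_zero_iff_mem.2 (Ideal.mem_span_singleton_self g)]; exact P.zero_mem)
    rw [← Ideal.map_comap_of_surjective (Ideal.Quotient.mk (Ideal.span {g})) Ideal.Quotient.mk_surjective P]
    refine (Ideal.map_eq_top_or_isMaximal_of_surjective _ Ideal.Quotient.mk_surjective this).resolve_left ?_
    rw [Ideal.map_comap_of_surjective _ Ideal.Quotient.mk_surjective]
    exact hP.ne_top
  haveI : Algebra.IsStandardSmooth k A := Algebra.IsStandardSmoothOfRelativeDimension.isStandardSmooth 1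
  haveI : Algebra.FiniteType k (A ⧸ Ideal.span {g}) :=
    Algebra.FiniteType.of_surjective (Ideal.Quotient.mkₐ k _) (Ideal.Quotient.mkₐ_surjective k _)
  haveI : IsNoetherianRing (A ⧸ Ideal.span {g}) := Algebra.FiniteType.isNoetherianRing k _
  haveI : IsArtinianRing (A ⧸ Ideal.span {g}) :=
    isArtinianRing_iff_isNoetherianRing_krullDimLE_zero.2 ⟨inferInstance, inferInstance⟩
  haveI : Module.Finite k (A ⧸ Ideal.span {g}) := Module.finite_of_isArtinianRing _ _
  infer_instance

end Groth.Agent.HilbCurveLib
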